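import Groth.Agent.Lib.ModPair19.Basic
import Groth.Agent.Lib.Cohom.AffineSections
import Mathlib.RingTheory.Smooth.IntegralClosure
import Mathlib.RingTheory.Etale.Basic
import Mathlib.AlgebraicGeometry.Morphisms.Etale

/-!
# Relative integral closedness in the interior ascends along smooth morphisms
-/

set_option autoImplicit false
set_option backward.isDefEq.respectTransparency false
set_option linter.style.haveILetI false

universe u

open CategoryTheory AlgebraicGeometry TopologicalSpace Opposite TensorProduct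

noncomputable section

namespace GrothLib.ModInt8

/-- The algebraic statement. -/
theorem mem_range_of_isIntegral {R S Ra Sa : Type u} [CommRing R] [CommRing S] [CommRing Ra] [CommRing Sa]
    [Algebra R S] [Algebra.Smooth R S] [Algebra R Ra] [Algebra S Sa] (a : R) [IsLocalization.Away a Ra]
    [IsLocalization.Away (algebraMap R S a) Sa]
    (hR : ∀ c : Ra, IsIntegral R c → c ∈ Set.range (algebraMap R Ra))
    (t : Sa) (ht : IsIntegral S t) : t ∈ Set.range (algebraMap S Sa) := by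
  letI : Algebra R Sa := ((algebraMap S Sa).comp (algebraMap R S)).toAlgebra
  haveI : IsScalarTower R S Sa := IsScalarTower.of_algebraMap_eq' rfl
  letI : Algebra Ra Sa := (IsLocalization.Away.lift a (g := algebraMap R Sa)
    (IsLocalization.Away.algebraMap_isUnit (algebraMap R S a))).toAlgebra
  haveI : IsScalarTower R Ra Sa := IsScalarTower.of_algebraMap_eq fun r =>
    (IsLocalization.Away.lift_eq a _ r).symm
  haveI : IsLocalization (Algebra.algebraMapSubmonoid S (Submonoid.powers a)) Sa := by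
    rw [Algebra.algebraMapSubmonoid_powers]; infer_instance
  haveI : Algebra.IsPushout R S Ra Sa := Algebra.isPushout_of_isLocalization (Submonoid.powers a) Ra S Sa
  let e : S ⊗[R] Ra ≃ₐ[S] Sa := Algebra.IsPushout.equiv R S Ra Sa
  obtain ⟨w, hw⟩ := (TensorProduct.toIntegralClosure_bijective_of_smooth (R := R) (S := S) (B := Ra)).2
    ⟨e.symm t, ht.map e.symm.toAlgHom⟩
  have key : ∀ w : S ⊗[R] integralClosure R Ra,
      e (TensorProduct.toIntegralClosure R S Ra w).1 ∈ Set.range (algebraMap S Sa) := by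
    intro w
    induction w using TensorProduct.induction_on with
    | zero => exact ⟨0, by simp⟩
    | add x y hx hy =>
      obtain ⟨p, hp⟩ := hx
      obtain ⟨q, hq⟩ := hy
      exact ⟨p + q, by rw [map_add, map_add, Subalgebra.coe_add, map_add, hp, hq]⟩
    | tmul s c =>
      obtain ⟨r, hr⟩ := hR c.1 c.2
      refine ⟨s * algebraMap R S r, ?_⟩
      have he : (TensorProduct.toIntegralClosure R S Ra (s ⊗ₜ[R] c)).1 = s ⊗ₜ[R] c.1 := rfl
      have hm : s ⊗ₜ[R] algebraMap R Ra r = algebraMap S (S ⊗[R] Ra) (s * algebraMap R S r) := by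
        rw [Algebra.TensorProduct.algebraMap_apply, Algebra.algebraMap_self, RingHom.id_apply,
          Algebra.algebraMap_eq_smul_one r, tmul_smul, smul_tmul', Algebra.smul_def, mul_comm]
      rw [he, ← hr, hm, AlgEquiv.commutes]
  have := key w
  rw [hw] at this
  simpa using this

variable {X Y : Scheme.{u}} (IX : X.IdealSheafData)

theorem inf_interior_eq {U : X.affineOpens} {a : Γ(X, U.1)} (ha : IX.ideal U = Ideal.span {a}) :
    U.1 ⊓ ModPair.interior IX = X.basicOpen a := by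
  ext x
  have h := Set.ext_iff.1 (IX.coe_support_inter U) x
  rw [ha, Scheme.zeroLocus_span, Scheme.zeroLocus_singleton] at h
  constructor
  · rintro ⟨hxU, hx⟩
    by_contra hxa
    exact hx ((h.2 ⟨hxa, hxU⟩).1)
  · intro hxa
    exact ⟨X.basicOpen_le a hxa, fun hs => (h.1 ⟨hs, X.basicOpen_le a hxa⟩).1 hxa⟩

theorem res_injective {J : Y.IdealSheafData} (hJ : BlowUp.IsEffCartierIdeal J) (V : Y.Opens) :
    Function.Injective (Y.presheaf.map (homOfLE (inf_le_left : V ⊓ ModPair.interior J ≤ V)).op).hom := by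
  rw [injective_iff_map_eq_zero]
  exact fun s hs => GrothLib.ABU25.eq_zero_of_effCartier hJ s ((GrothLib.ABU25.app_ι_eq_zero_iff _ V s).2 hs)

variable {IX}

/-- Integral closedness on a small affine open of the source. -/
theorem mem_range_local (g : Y ⟶ X) [Smooth g] {U : X.affineOpens} {a : Γ(X, U.1)}
    (ha : IX.ideal U = Ideal.span {a})
    (hint : ∀ s : Γ(X, U.1 ⊓ ModPair.interior IX),
      (X.presheaf.map (homOfLE (inf_le_left : U.1 ⊓ ModPair.interior IX ≤ U.1)).op).hom.IsIntegralElem s →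
        s ∈ Set.range (X.presheaf.map (homOfLE (inf_le_left : U.1 ⊓ ModPair.interior IX ≤ U.1)).op).hom)
    {V : Y.Opens} (hV : IsAffineOpen V) (hVU : V ≤ g ⁻¹ᵁ U.1)
    (t : Γ(Y, V ⊓ g ⁻¹ᵁ ModPair.interior IX))
    (ht : (Y.presheaf.map (homOfLE (inf_le_left : V ⊓ g ⁻¹ᵁ ModPair.interior IX ≤ V)).op).hom.IsIntegralElem t) :
    t ∈ Set.range (Y.presheaf.map (homOfLE (inf_le_left : V ⊓ g ⁻¹ᵁ ModPair.interior IX ≤ V)).op).hom := by
  have e1 : U.1 ⊓ ModPair.interior IX = X.basicOpen a := inf_interior_eq IX ha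
  have e2 : V ⊓ g ⁻¹ᵁ ModPair.interior IX = Y.basicOpen (g.appLE U.1 V hVU a) := by
    rw [Scheme.basicOpen_appLE, ← e1, Scheme.Hom.preimage_inf, ← inf_assoc, inf_eq_left.2 hVU]
  letI : Algebra Γ(X, U.1) Γ(Y, V) := (g.appLE U.1 V hVU).hom.toAlgebra
  haveI : Algebra.Smooth Γ(X, U.1) Γ(Y, V) := g.smooth_appLE U.2 hV hVU
  letI : Algebra Γ(X, U.1) Γ(X, U.1 ⊓ ModPair.interior IX) :=
    (X.presheaf.map (homOfLE (inf_le_left : U.1 ⊓ ModPair.interior IX ≤ U.1)).op).hom.toAlgebra
  letI : Algebra Γ(Y, V) Γ(Y, V ⊓ g ⁻¹ᵁ ModPair.interior IX) :=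
    (Y.presheaf.map (homOfLE (inf_le_left : V ⊓ g ⁻¹ᵁ ModPair.interior IX ≤ V)).op).hom.toAlgebra
  haveI : IsLocalization.Away a Γ(X, U.1 ⊓ ModPair.interior IX) :=
    U.2.isLocalization_of_eq_basicOpen a (homOfLE inf_le_left) e1
  haveI : IsLocalization.Away (algebraMap Γ(X, U.1) Γ(Y, V) a) Γ(Y, V ⊓ g ⁻¹ᵁ ModPair.interior IX) :=
    hV.isLocalization_of_eq_basicOpen (g.appLE U.1 V hVU a) (homOfLE inf_le_left) e2
  exact mem_range_of_isIntegral (Ra := Γ(X, U.1 ⊓ ModPair.interior IX)) a hint t ht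

/-- Integral closedness ascends. -/
theorem mem_range (hX : BlowUp.IsEffCartierIdeal IX) (g : Y ⟶ X) [Smooth g]
    (hint : ∀ U ∈ X.affineOpens, ∀ s : Γ(X, U ⊓ ModPair.interior IX),
      (X.presheaf.map (homOfLE (inf_le_left : U ⊓ ModPair.interior IX ≤ U)).op).hom.IsIntegralElem s →
        s ∈ Set.range (X.presheaf.map (homOfLE (inf_le_left : U ⊓ ModPair.interior IX ≤ U)).op).hom)
    (V : Y.Opens) (t : Γ(Y, V ⊓ g ⁻¹ᵁ ModPair.interior IX))
    (ht : (Y.presheaf.map (homOfLE (inf_le_left : V ⊓ g ⁻¹ᵁ ModPair.interior IX ≤ V)).op).hom.IsIntegralElem t) :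
    t ∈ Set.range (Y.presheaf.map (homOfLE (inf_le_left : V ⊓ g ⁻¹ᵁ ModPair.interior IX ≤ V)).op).hom := by
  let O := g ⁻¹ᵁ ModPair.interior IX
  have hJ : BlowUp.IsEffCartierIdeal (IX.comap g) := GrothLib.BlowUp.isEffCartierIdeal_comap_of_flat g hX
  have hinj : ∀ W : Y.Opens, Function.Injective (Y.presheaf.map (homOfLE (inf_le_left : W ⊓ O ≤ W)).op).hom := by
    intro W
    have h := res_injective hJ W
    intro a b hab
    apply h
    have hle : W ⊓ ModPair.interior (IX.comap g) ≤ W ⊓ O := by rw [ModPair19.interior_comap]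
    have := congrArg (Y.presheaf.map (homOfLE hle).op) hab
    rwa [Cohom.ringMap_map_apply, Cohom.ringMap_map_apply] at this
  have key : ∀ x : V, ∃ (W : Y.Opens) (hW : W ≤ V) (s : Γ(Y, W)), x.1 ∈ W ∧
      Y.presheaf.map (homOfLE (inf_le_left : W ⊓ O ≤ W)).op s =
        Y.presheaf.map (homOfLE (inf_le_inf_right O hW)).op t := by
    intro x
    obtain ⟨U, hxU, a, -, ha⟩ := hX (g x.1)
    obtain ⟨W, hW, hxW, hle⟩ := exists_isAffineOpen_mem_and_subset
      (show x.1 ∈ V ⊓ g ⁻¹ᵁ U.1 from ⟨x.2, hxU⟩)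
    refine ⟨W, hle.trans inf_le_left, ?_⟩
    obtain ⟨s, hs⟩ := mem_range_local g ha (hint U.1 U.2) hW (hle.trans inf_le_right)
      (Y.presheaf.map (homOfLE (inf_le_inf_right O (hle.trans inf_le_left))).op t) (by
        obtain ⟨p, hp, hpt⟩ := ht
        refine ⟨p.map (Y.presheaf.map (homOfLE (hle.trans inf_le_left : W ≤ V)).op).hom, hp.map _, ?_⟩
        rw [Polynomial.eval₂_map, ← CommRingCat.hom_comp, ← Functor.map_comp]
        have := congrArg (Y.presheaf.map (homOfLE (inf_le_inf_right O (hle.trans inf_le_left : W ≤ V))).op).hom hpt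
        rw [Polynomial.hom_eval₂, map_zero, ← CommRingCat.hom_comp, ← Functor.map_comp] at this
        exact this)
    exact ⟨s, hxW, hs⟩
  choose W hW s hxW hs using key
  have hcompat : ∀ x x' : V, Y.presheaf.map (homOfLE (inf_le_left : W x ⊓ W x' ≤ W x)).op (s x) =
      Y.presheaf.map (homOfLE (inf_le_right : W x ⊓ W x' ≤ W x')).op (s x') := by
    intro x x'
    refine hinj _ ?_
    have h1 := congrArg (Y.presheaf.map (homOfLE (inf_le_inf_right O (inf_le_left : W x ⊓ W x' ≤ W x))).op) (hs x)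
    have h2 := congrArg (Y.presheaf.map (homOfLE (inf_le_inf_right O (inf_le_right : W x ⊓ W x' ≤ W x'))).op) (hs x')
    simp only [Cohom.ringMap_map_apply] at h1 h2 ⊢
    exact h1.trans h2.symm
  obtain ⟨σ, hσ, -⟩ := TopCat.Sheaf.existsUnique_gluing' Y.sheaf W V (fun x => homOfLE (hW x))
    (fun x hx => Opens.mem_iSup.2 ⟨⟨x, hx⟩, hxW ⟨x, hx⟩⟩) s (fun x x' => hcompat x x')
  refine ⟨σ, TopCat.Sheaf.eq_of_locally_eq' Y.sheaf (fun x => W x ⊓ O) (V ⊓ O)
    (fun x => homOfLE (inf_le_inf_right O (hW x))) (fun x hx => Opens.mem_iSup.2 ⟨⟨x, hx.1⟩, hxW ⟨x, hx.1⟩, hx.2⟩) _ _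
    fun x => ?_⟩
  refine Eq.trans ?_ (hs x)
  rw [← hσ x]
  show Y.presheaf.map _ (Y.presheaf.map _ σ) = Y.presheaf.map _ (Y.presheaf.map _ σ)
  rw [Cohom.ringMap_map_apply, Cohom.ringMap_map_apply]

end GrothLib.ModInt8
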